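import Groth.Prelude.Def_DCoh2
import Groth.Agent.Lib.DerivedOX.CompactUnit
import Groth.Agent.Lib.DerivedOX.TildeEquiv
import Groth.Agent.Lib.ParaF.ResBij
import Mathlib.Algebra.Homology.Homotopy

/-!
# Maps from translates of `𝒪` vanish when the derived global sections do
-/

set_option autoImplicit false
set_option linter.style.haveILetI false
set_option linter.unusedSectionVars false

universe u

open CategoryTheory CategoryTheory.Limits AlgebraicGeometry Opposite

attribute [local instance] HasDerivedCategory.standard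

namespace Groth.Agent.H83.AmpleGen

open Groth.Agent.Lib Groth.Agent.Lib.DerivedOX

variable {X : Scheme.{u}} [DCoh.HasRΓ X]

/-- `Hom(𝒪[m], Z) = 0` if `H^{-m} RΓ(Z) = 0`. -/
theorem eq_zero_of_isZero_RΓ (Z : DCoh.D X) (m : ℤ)
    (h : IsZero ((DerivedCategory.homologyFunctor AddCommGrpCat.{u} (-m)).obj ((DCoh.RΓ X).obj Z)))
    (φ : (CompactUnit.oneD X)⟦m⟧ ⟶ Z) : φ = 0 := by
  obtain ⟨I, hI, ⟨e⟩⟩ := RightDerived.exists_resFunctor_obj_iso Z
  haveI := hI
  haveI := DerCat.HProd.isIso_counit Z
  let eI : DerivedCategory.Q.obj I ≅ Z :=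
    (DerivedCategory.quotientCompQhIso _).symm.app I ≪≫ DerivedCategory.Qh.mapIso e ≪≫
      asIso ((RightDerived.resAdj _).counit.app _)
  let q := (HomotopyCategory.quotient X.Modules (ComplexShape.up ℤ)).obj I
  haveI := RightDerived.isIso_totalRightDerivedUnit_app_of_isKInjective (DCoh.gammaKh X) I
  let G := ((DCoh.gammaAb X).mapHomologicalComplex (ComplexShape.up ℤ)).obj I
  let eG : DerivedCategory.Q.obj G ≅ (DCoh.RΓ X).obj Z :=
    ((DerivedCategory.quotientCompQhIso AddCommGrpCat.{u}).app G).symm ≪≫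
      DerivedCategory.Qh.mapIso
        (((DCoh.gammaAb X).mapHomotopyCategoryFactors (ComplexShape.up ℤ)).app I).symm ≪≫
      asIso (((DCoh.gammaKh X).totalRightDerivedUnit DerivedCategory.Qh
        (HomotopyCategory.quasiIso X.Modules (ComplexShape.up ℤ))).app q) ≪≫
      (DCoh.RΓ X).mapIso ((DerivedCategory.quotientCompQhIso X.Modules).app I ≪≫ eI)
  have hG : IsZero (G.homology (-m)) :=
    (h.of_iso ((DerivedCategory.homologyFunctor AddCommGrpCat.{u} (-m)).mapIso eG)).of_iso
      ((DerivedCategory.homologyFunctorFactors AddCommGrpCat.{u} (-m)).app G).symm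
  let O := Coh.structureModule X
  let S := (HomologicalComplex.single X.Modules (ComplexShape.up ℤ) (-m)).obj O
  let eS : DerivedCategory.Q.obj S ≅ (CompactUnit.oneD X)⟦m⟧ :=
    ((DerivedCategory.singleFunctorIsoCompQ X.Modules (-m)).app O).symm ≪≫
      ((DerivedCategory.singleFunctors X.Modules).shiftIso m (-m) 0 (by omega)).symm.app O
  suffices H : eS.hom ≫ φ ≫ eI.inv = 0 by
    have := congrArg (fun k => eS.inv ≫ k ≫ eI.hom) H
    simpa using this
  obtain ⟨f, hf⟩ := TildeEquiv.exists_map_of_kinj (eS.hom ≫ φ ≫ eI.inv)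
  rw [← hf]
  let a : O ⟶ I.X (-m) := (HomologicalComplex.singleObjXSelf (ComplexShape.up ℤ) (-m) O).inv ≫ f.f (-m)
  have ha : a ≫ I.d (-m) (-m + 1) = 0 := by
    simp only [a, Category.assoc]
    rw [f.comm (-m) (-m + 1),
      show S.d (-m) (-m + 1) = 0 from HomologicalComplex.single_obj_d .., zero_comp, comp_zero]
  let x : Γ(I.X (-m), ⊤) := ParaF.ResBij.homUnitEquivTop _ a
  have hx : (I.d (-m) (-m + 1)).app ⊤ x = 0 :=
    (ParaF.ResBij.homUnitEquivTop_comp a (I.d (-m) (-m + 1))).symm.trans
      ((congrArg (ParaF.ResBij.homUnitEquivTop _) ha).trans rfl)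
  have hex := (HomologicalComplex.exactAt_iff' G (-m - 1) (-m) (-m + 1)
    (by simp) (by simp)).1 ((HomologicalComplex.exactAt_iff_isZero_homology _ _).2 hG)
  obtain ⟨y, hy⟩ := (ShortComplex.ab_exact_iff _).1 hex x hx
  let g : O ⟶ I.X (-m - 1) := (ParaF.ResBij.homUnitEquivTop _).symm y
  have hg : g ≫ I.d (-m - 1) (-m) = a := by
    apply (ParaF.ResBij.homUnitEquivTop (I.X (-m))).injective
    refine (ParaF.ResBij.homUnitEquivTop_comp g _).trans ?_
    refine (congrArg (fun z => (I.d (-m - 1) (-m)).app ⊤ z) (Equiv.apply_symm_apply _ y)).trans ?_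
    exact hy
  let hh : ∀ i j : ℤ, (ComplexShape.up ℤ).Rel j i → (S.X i ⟶ I.X j) := fun i j hij =>
    if hi : i = -m then (HomologicalComplex.singleObjXIsoOfEq (ComplexShape.up ℤ) (-m) O i hi).hom ≫ g ≫
      eqToHom (congrArg I.X (show -m - 1 = j by simp at hij; omega)) else 0
  have hnull : Homotopy.nullHomotopicMap' hh = f := by
    refine HomologicalComplex.from_single_hom_ext ?_
    rw [Homotopy.nullHomotopicMap'_f (show (ComplexShape.up ℤ).Rel (-m - 1) (-m) by simp)
      (show (ComplexShape.up ℤ).Rel (-m) (-m + 1) by simp),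
      show S.d (-m) (-m + 1) = 0 from HomologicalComplex.single_obj_d .., zero_comp, zero_add]
    simp only [hh, dif_pos, eqToHom_refl, Category.comp_id, Category.assoc, hg]
    change (HomologicalComplex.singleObjXSelf (ComplexShape.up ℤ) (-m) O).hom ≫ a = _
    simp [a]
  have h0 : (HomotopyCategory.quotient X.Modules (ComplexShape.up ℤ)).map f = 0 := by
    rw [← hnull]
    exact (HomotopyCategory.eq_of_homotopy _ _ (Homotopy.nullHomotopy' hh)).trans (Functor.map_zero _ _ _)
  apply (cancel_epi ((DerivedCategory.quotientCompQhIso X.Modules).hom.app S)).1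
  refine (((DerivedCategory.quotientCompQhIso X.Modules).hom.naturality f).symm).trans ?_
  rw [comp_zero, Functor.comp_map, h0, Functor.map_zero, zero_comp]

end Groth.Agent.H83.AmpleGen
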