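import Groth.Agent.H83.AmpleGen.Ample
import Groth.Agent.Lib.ProjCoh.Coherent
import Groth.Agent.Lib.HProj.QuasiProj
import Groth.Agent.Lib.Perfect.Stupid
import Groth.Agent.Lib.DerivedOX.DualFree
import Groth.Agent.S1071
import Mathlib.Algebra.Homology.DerivedCategory.ShortExact

/-!
# The twists `O, O(-1), …, O(-n)` generate `D_QCoh(P^n)`
-/

set_option autoImplicit false
set_option linter.style.haveILetI false
set_option linter.unusedSectionVars false

universe w v u

open CategoryTheory CategoryTheory.Limits CategoryTheory.Pretriangulated AlgebraicGeometry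

attribute [local instance] HasDerivedCategory.standard

namespace Groth.Agent.H83.AmpleGen

section Gen

variable {A : Type u} [Category.{v} A] [Abelian A] [HasDerivedCategory.{w} A]
  (T₁ T₂ : A ⥤ A) [T₁.Additive] [T₂.Additive] [PreservesFiniteLimits T₁] [PreservesFiniteColimits T₁]
  [PreservesFiniteLimits T₂] [PreservesFiniteColimits T₂]

/-- A one-sided inverse gives faithfulness on derived categories. -/
theorem faithful_mapDerivedCategory (v : T₁ ⋙ T₂ ≅ 𝟭 A) : T₁.mapDerivedCategory.Faithful := by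
  let C₁ := T₁.mapHomologicalComplex (ComplexShape.up ℤ)
  let C₂ := T₂.mapHomologicalComplex (ComplexShape.up ℤ)
  let vC : C₁ ⋙ C₂ ≅ 𝟭 (CochainComplex A ℤ) :=
    NatIso.ofComponents (fun E => HomologicalComplex.Hom.isoOfComponents (fun i => v.app (E.X i))
      fun i j _ => (v.hom.naturality (E.d i j)).symm)
      fun {E E'} g => HomologicalComplex.hom_ext _ _ fun i => v.hom.naturality (g.f i)
  letI : Localization.Lifting DerivedCategory.Q (HomologicalComplex.quasiIso A (ComplexShape.up ℤ))
      ((C₁ ⋙ C₂) ⋙ DerivedCategory.Q) (T₁.mapDerivedCategory ⋙ T₂.mapDerivedCategory) :=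
    ⟨(Functor.associator _ _ _).symm ≪≫ Functor.isoWhiskerRight T₁.mapDerivedCategoryFactors _ ≪≫
      Functor.associator _ _ _ ≪≫ Functor.isoWhiskerLeft C₁ T₂.mapDerivedCategoryFactors ≪≫
      (Functor.associator _ _ _).symm⟩
  letI : Localization.Lifting DerivedCategory.Q (HomologicalComplex.quasiIso A (ComplexShape.up ℤ))
      (𝟭 (CochainComplex A ℤ) ⋙ DerivedCategory.Q) (𝟭 (DerivedCategory A)) :=
    ⟨Functor.rightUnitor _ ≪≫ (Functor.leftUnitor _).symm⟩
  let e := Localization.liftNatIso DerivedCategory.Q (HomologicalComplex.quasiIso A (ComplexShape.up ℤ))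
    ((C₁ ⋙ C₂) ⋙ DerivedCategory.Q) (𝟭 (CochainComplex A ℤ) ⋙ DerivedCategory.Q)
    (T₁.mapDerivedCategory ⋙ T₂.mapDerivedCategory) (𝟭 (DerivedCategory A))
    (Functor.isoWhiskerRight vC DerivedCategory.Q)
  haveI : (T₁.mapDerivedCategory ⋙ T₂.mapDerivedCategory).Faithful := Functor.Faithful.of_iso e.symm
  exact Functor.Faithful.of_comp T₁.mapDerivedCategory T₂.mapDerivedCategory

end Gen

section Orth

open Groth.Agent.Lib Groth.Agent.Lib.Perfect

variable {X : Scheme.{u}} (K : DCoh.D X)

/-- Left orthogonal to all translates of `K`. -/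
def Orth (Q : DCoh.D X) : Prop := ∀ (m : ℤ) (φ : Q⟦m⟧ ⟶ K), φ = 0

variable {K}

lemma Orth.of_iso {Q Q' : DCoh.D X} (h : Orth K Q) (e : Q ≅ Q') : Orth K Q' := fun m φ =>
  (cancel_epi (e.hom⟦m⟧')).1 ((h m _).trans comp_zero.symm)

lemma Orth.shift {Q : DCoh.D X} (h : Orth K Q) (k : ℤ) : Orth K (Q⟦k⟧) := fun m φ =>
  (cancel_epi ((shiftFunctorAdd' (DCoh.D X) k m (k + m) rfl).hom.app Q)).1
    ((h (k + m) _).trans comp_zero.symm)

lemma Orth.of_isZero {Q : DCoh.D X} (h : IsZero Q) : Orth K Q := fun m φ =>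
  (Functor.map_isZero _ h).eq_of_src _ _

lemma Orth.ext {T : Triangle (DCoh.D X)} (hT : T ∈ distTriang (DCoh.D X)) (h₁ : Orth K T.obj₁)
    (h₃ : Orth K T.obj₃) : Orth K T.obj₂ := fun m φ => by
  obtain ⟨ψ, rfl⟩ := Triangle.yoneda_exact₂ _ (Triangle.shift_distinguished _ hT m) φ (h₁ m _)
  exact (congrArg (_ ≫ ·) (h₃ m ψ)).trans comp_zero

/-- A module placed in degree `i`. -/
noncomputable abbrev sQ (i : ℤ) (M : X.Modules) : DCoh.D X :=
  DerivedCategory.Q.obj ((HomologicalComplex.single X.Modules (ComplexShape.up ℤ) i).obj M)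

lemma Orth.single (M : X.Modules) (h : Orth K (DCoh.inD X M)) (i : ℤ) : Orth K (sQ i M) :=
  (h.shift (-i)).of_iso
    (((DerivedCategory.singleFunctors X.Modules).shiftIso (-i) i 0 (by omega)).app M ≪≫
      (DerivedCategory.singleFunctorIsoCompQ X.Modules i).app M)

lemma Orth.sigma {J : Type} [Finite J] (f : J → X.Modules) [HasCoproduct f] (i : ℤ)
    (h : ∀ j, Orth K (sQ i (f j))) : Orth K (sQ i (∐ f)) := fun m φ => by
  classical
  haveI := Fintype.ofFinite J
  let G := HomologicalComplex.single X.Modules (ComplexShape.up ℤ) i ⋙ DerivedCategory.Q ⋙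
    shiftFunctor (DCoh.D X) m
  have hid : 𝟙 (∐ f) = ∑ j, Sigma.desc (fun j' => if hj : j' = j then eqToHom (congrArg f hj) else 0) ≫
      Sigma.ι f j := Sigma.hom_ext _ _ fun j => by
    rw [Category.comp_id, Preadditive.comp_sum, Finset.sum_eq_single j]
    · simp
    · intro b _ hb
      simp [Ne.symm hb]
    · simp
  have h1 : φ = G.map (𝟙 (∐ f)) ≫ φ := by rw [G.map_id]; exact (Category.id_comp φ).symm
  rw [h1, hid, Functor.map_sum, Preadditive.sum_comp]
  refine Finset.sum_eq_zero fun j _ => ?_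
  rw [G.map_comp, Category.assoc, show G.map (Sigma.ι f j) ≫ φ = 0 from h j m _, comp_zero]

lemma Orth.of_terms (F : CochainComplex X.Modules ℤ) (hg : ∀ i, Orth K (sQ i (F.X i))) (b : ℤ) (m : ℕ)
    (hz : ∀ i, i < b - m ∨ b ≤ i → IsZero (F.X i)) : Orth K (DerivedCategory.Q.obj F) := by
  induction m generalizing F with
  | zero =>
    exact Orth.of_isZero (Functor.map_isZero _ ((IsZero.iff_id_eq_zero F).2
      (HomologicalComplex.hom_ext _ _ fun i => (hz i (by omega)).eq_of_src _ _)))
  | succ m ih =>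
    let a := b - (m + 1 : ℕ)
    have hbelow : ∀ i, i < a → IsZero (F.X i) := fun i hi => hz i (Or.inl hi)
    let π : F ⟶ (HomologicalComplex.single X.Modules (ComplexShape.up ℤ) a).obj (F.X a) :=
      HomologicalComplex.mkHomToSingle (𝟙 _) (fun i (hi : i + 1 = a) =>
        (hbelow i (by omega)).eq_of_src _ _)
    let S := ShortComplex.mk (Stupid.ι F (a + 1)) π (by
      apply HomologicalComplex.to_single_hom_ext
      exact (Stupid.isZero_trunc F (a + 1) a (by omega)).eq_of_src _ _)
    have σ : ∀ k, (S.map (HomologicalComplex.eval X.Modules (ComplexShape.up ℤ) k)).Splitting := fun k => by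
      by_cases hk : a + 1 ≤ k
      · haveI : IsIso (S.map (HomologicalComplex.eval X.Modules (ComplexShape.up ℤ) k)).f :=
          Stupid.isIso_ι F (a + 1) k hk
        exact DerivedOX.DualFree.splitting₁ _
          (HomologicalComplex.isZero_single_obj_X (ComplexShape.up ℤ) a (F.X a) k (by omega))
      · haveI : IsIso (S.map (HomologicalComplex.eval X.Modules (ComplexShape.up ℤ) k)).g := by
          change IsIso (π.f k)
          by_cases h₀ : k = a
          · subst h₀
            rw [show π.f a = 𝟙 _ ≫ (HomologicalComplex.singleObjXSelf (ComplexShape.up ℤ) a (F.X a)).inv from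
              HomologicalComplex.mkHomToSingle_f _ _]
            infer_instance
          · exact DerivedOX.OpenSupport.isIso_of_zero _ (hbelow k (by omega))
              (HomologicalComplex.isZero_single_obj_X (ComplexShape.up ℤ) a (F.X a) k h₀)
        exact DerivedOX.DualFree.splitting₃ _ (Stupid.isZero_trunc F (a + 1) k (by omega))
    have hS : S.ShortExact :=
      HomologicalComplex.shortExact_of_degreewise_shortExact S fun k => (σ k).shortExact
    refine Orth.ext (DerivedCategory.triangleOfSES_distinguished hS) (ih _ (fun i => ?_) fun i hi => ?_) (hg a)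
    · by_cases hi : a + 1 ≤ i
      · haveI := Stupid.isIso_ι F (a + 1) i hi
        exact (hg i).of_iso ((HomologicalComplex.single X.Modules (ComplexShape.up ℤ) i ⋙
          DerivedCategory.Q).mapIso (asIso ((Stupid.ι F (a + 1)).f i)).symm)
      · exact Orth.of_isZero ((HomologicalComplex.single X.Modules (ComplexShape.up ℤ) i ⋙
          DerivedCategory.Q).map_isZero (Stupid.isZero_trunc F (a + 1) i (by omega)))
    · by_cases hi' : a + 1 ≤ i
      · haveI := Stupid.isIso_ι F (a + 1) i hi'
        exact (hz i (by omega)).of_iso (asIso ((Stupid.ι F (a + 1)).f i))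
      · exact Stupid.isZero_trunc F (a + 1) i (by omega)

/-- The first term of a bounded acyclic complex lies in the class of the others. -/
lemma Orth.first_of_acyclic (C : CochainComplex X.Modules ℤ) (hC : ∀ i, C.ExactAt i) (N : ℕ)
    (hz : ∀ i : ℤ, i < 0 ∨ (N : ℤ) < i → IsZero (C.X i))
    (h : ∀ i : ℤ, 1 ≤ i → Orth K (sQ i (C.X i))) : Orth K (sQ 0 (C.X 0)) := by
  let π : C ⟶ (HomologicalComplex.single X.Modules (ComplexShape.up ℤ) 0).obj (C.X 0) :=
    HomologicalComplex.mkHomToSingle (𝟙 _) (fun i (hi : i + 1 = 0) =>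
      (hz i (by omega)).eq_of_src _ _)
  let T := Stupid.trunc C 1
  let S := ShortComplex.mk (Stupid.ι C 1) π (by
    apply HomologicalComplex.to_single_hom_ext
    exact (Stupid.isZero_trunc C 1 0 (by omega)).eq_of_src _ _)
  have σ : ∀ k, (S.map (HomologicalComplex.eval X.Modules (ComplexShape.up ℤ) k)).Splitting := fun k => by
    by_cases hk : 1 ≤ k
    · haveI : IsIso (S.map (HomologicalComplex.eval X.Modules (ComplexShape.up ℤ) k)).f :=
        Stupid.isIso_ι C 1 k hk
      exact DerivedOX.DualFree.splitting₁ _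
        (HomologicalComplex.isZero_single_obj_X (ComplexShape.up ℤ) 0 (C.X 0) k (by omega))
    · haveI : IsIso (S.map (HomologicalComplex.eval X.Modules (ComplexShape.up ℤ) k)).g := by
        change IsIso (π.f k)
        by_cases h₀ : k = 0
        · subst h₀
          rw [show π.f 0 = 𝟙 _ ≫ (HomologicalComplex.singleObjXSelf (ComplexShape.up ℤ) 0 (C.X 0)).inv from
            HomologicalComplex.mkHomToSingle_f _ _]
          infer_instance
        · exact DerivedOX.OpenSupport.isIso_of_zero _ (hz k (by omega))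
            (HomologicalComplex.isZero_single_obj_X (ComplexShape.up ℤ) 0 (C.X 0) k h₀)
      exact DerivedOX.DualFree.splitting₃ _ (Stupid.isZero_trunc C 1 k (by omega))
  have hS : S.ShortExact :=
    HomologicalComplex.shortExact_of_degreewise_shortExact S fun k => (σ k).shortExact
  have hT : Orth K (DerivedCategory.Q.obj T) := by
    refine Orth.of_terms T (fun i => ?_) ((N : ℤ) + 1) N fun i hi => ?_
    · by_cases hi : 1 ≤ i
      · haveI := Stupid.isIso_ι C 1 i hi
        exact (h i hi).of_iso ((HomologicalComplex.single X.Modules (ComplexShape.up ℤ) i ⋙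
          DerivedCategory.Q).mapIso (asIso ((Stupid.ι C 1).f i)).symm)
      · exact Orth.of_isZero ((HomologicalComplex.single X.Modules (ComplexShape.up ℤ) i ⋙
          DerivedCategory.Q).map_isZero (Stupid.isZero_trunc C 1 i (by omega)))
    · by_cases hi' : 1 ≤ i
      · haveI := Stupid.isIso_ι C 1 i hi'
        exact (hz i (by omega)).of_iso (asIso ((Stupid.ι C 1).f i))
      · exact Stupid.isZero_trunc C 1 i (by omega)
  have h0 : IsZero (DerivedCategory.Q.obj C) := DerivedOX.OpenSupport.isZero_of_homology _ fun i =>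
    ((HomologicalComplex.exactAt_iff_isZero_homology _ _).1 (hC i)).of_iso
      ((DerivedCategory.homologyFunctorFactors X.Modules i).app C)
  have hTr := rot_of_distTriang _ (DerivedCategory.triangleOfSES_distinguished hS)
  exact Orth.ext hTr (Orth.of_isZero h0) (hT.shift 1)

end Orth

section Pn

open Groth.Agent.Lib Groth.Agent.Lib.DerivedOX Groth.Agent.Lib.ProjCoh.Coherent Groth.Agent.Lib.TensorMod.Basic

variable (n : ℕ) (R : Type u) [CommRing R]

/-- The twisting sheaf `O(d)` on `P^n_R`. -/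
noncomputable abbrev PT (d : ℤ) : (CohB1.ProjSpace n R).Modules := ProjCoh.Coherent.tw n R d

theorem isZero_of_twists (K : DCoh.D (CohB1.ProjSpace n R)) (hK : DCoh.IsQCohD K)
    (h : ∀ d : ℕ, d ≤ n → Orth K (DCoh.inD (CohB1.ProjSpace n R) (Twist.twistProjSpace n R (-(d : ℤ))))) :
    IsZero K := by
  have hall : ∀ d : ℕ, Orth K (DCoh.inD (CohB1.ProjSpace n R) (PT n R (-(d : ℤ)))) := by
    intro d
    induction d using Nat.strong_induction_on with
    | _ d ih =>
      by_cases hd : d ≤ n
      · exact h d hd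
      obtain ⟨C, hC, hX, hz⟩ := Groth.Agent.S1071.result n R (-(d : ℤ))
      have h0 : Orth K (sQ 0 (C.X 0)) := Orth.first_of_acyclic C hC (n + 1) (fun i hi => hz i (by omega))
        fun i hi => by
          by_cases hi' : (n : ℤ) + 1 < i
          · exact Orth.of_isZero ((HomologicalComplex.single _ (ComplexShape.up ℤ) i ⋙
              DerivedCategory.Q).map_isZero (hz i (Or.inr hi')))
          obtain ⟨j, rfl⟩ := Int.eq_ofNat_of_zero_le (show 0 ≤ i by omega)
          obtain ⟨e⟩ := hX j (by omega)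
          refine (Orth.sigma _ _ fun _ => Orth.single _ ?_ _).of_iso
            ((HomologicalComplex.single _ (ComplexShape.up ℤ) _ ⋙ DerivedCategory.Q).mapIso e.symm)
          have := ih (d - j) (by omega)
          rw [show (-((d - j : ℕ) : ℤ)) = -(d : ℤ) + j by omega] at this
          exact this
      obtain ⟨e⟩ := hX 0 (by omega)
      haveI : Unique (Fin ((n + 1).choose 0)) := by rw [Nat.choose_zero_right]; infer_instance
      let ι₀ : PT n R (-(d : ℤ)) ≅ C.X (0 : ℤ) :=
        eqToIso ((show PT n R (-(d : ℤ)) = Twist.twistProjSpace n R (-(d : ℤ)) from rfl).trans (congrArg (Twist.twistProjSpace n R) (by simp))) ≪≫ (Limits.coproductUniqueIso (fun _ : Fin (Nat.choose (n + 1) 0) =>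
          Twist.twistProjSpace n R (-(d : ℤ) + ((0 : ℕ) : ℤ)))).symm ≪≫ e.symm
      exact h0.of_iso ((HomologicalComplex.single _ (ComplexShape.up ℤ) 0 ⋙ DerivedCategory.Q).mapIso ι₀.symm ≪≫
        ((DerivedCategory.singleFunctorIsoCompQ _ 0).app _).symm)
  have hamp : CohB1.IsAmple (PT n R 1) := HProj.QuasiProj.isAmple_twist_projSpace n R
  refine isZero_of_hom_eq_zero hamp hK fun i k _ m φ => ?_
  let q : ℕ := (i + 1) * k
  obtain ⟨t⟩ := nonempty_tensorPow_iso (n := n) (R := R) q
  let N := CohB1.tensorPow (CohB1.tensorPow (PT n R 1) (i + 1)) k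
  let iN : N ≅ PT n R (q : ℤ) := Ample.Pow.powMul (PT n R 1) (i + 1) k ≪≫ t.symm
  let c : CohB1.tensorMod N (PT n R (-(q : ℤ))) ≅ Coh.structureModule _ :=
    tensorIso iN (Iso.refl _) ≪≫ twTensor (q : ℤ) (-(q : ℤ)) ≪≫ eqToIso (by rw [add_neg_cancel]) ≪≫ twZero
  have hN : PicF.IsInvertible N :=
    TensorMod.Invertible.isInvertible_tensorPow (TensorMod.Invertible.isInvertible_tensorPow (ProjCoh.Coherent.isInvertible_tw 1) _) _
  haveI := isEquivalence_tw hN
  haveI := isEquivalence_tw (ProjCoh.Coherent.isInvertible_tw (n := n) (R := R) (-(q : ℤ)))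
  let N' := PT n R (-(q : ℤ))
  let T' : (CohB1.ProjSpace n R).Modules ⥤ (CohB1.ProjSpace n R).Modules := AmpleGen.tw N'
  let vv : AmpleGen.tw N ⋙ T' ≅ 𝟭 _ :=
    NatIso.ofComponents (fun G => assoc G N N' ≪≫ tensorIso (Iso.refl G) c ≪≫ rightUnit G) fun {G G'} g => by
      change tmap (tmap g (𝟙 N)) (𝟙 N') ≫ (assoc G' N N').hom ≫ tmap (𝟙 G') c.hom ≫ (rightUnit G').hom =
        ((assoc G N N').hom ≫ tmap (𝟙 G) c.hom ≫ (rightUnit G).hom) ≫ g
      rw [assoc_natural_assoc, tmap_id, ← tmap_comp_assoc, Category.id_comp, Category.comp_id]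
      simp only [Category.assoc]
      rw [← rightUnit_natural, ← tmap_comp_assoc, Category.id_comp, Category.comp_id]
  let c' : CohB1.tensorMod N' N ≅ Coh.structureModule _ := comm N' N ≪≫ c
  let vv' : T' ⋙ AmpleGen.tw N ≅ 𝟭 _ :=
    NatIso.ofComponents (fun G => assoc G N' N ≪≫ tensorIso (Iso.refl G) c' ≪≫ rightUnit G) fun {G G'} g => by
      change tmap (tmap g (𝟙 N')) (𝟙 N) ≫ (assoc G' N' N).hom ≫ tmap (𝟙 G') c'.hom ≫ (rightUnit G').hom =
        ((assoc G N' N).hom ≫ tmap (𝟙 G) c'.hom ≫ (rightUnit G).hom) ≫ g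
      rw [assoc_natural_assoc, tmap_id, ← tmap_comp_assoc, Category.id_comp, Category.comp_id]
      simp only [Category.assoc]
      rw [← rightUnit_natural, ← tmap_comp_assoc, Category.id_comp, Category.comp_id]
  haveI := faithful_mapDerivedCategory T' (AmpleGen.tw N) vv'
  let E := DerivedCategory.Q.objPreimage K
  let eE := DerivedCategory.Q.objObjPreimageIso K
  obtain ⟨a⟩ := exists_pw_iso (CohB1.tensorPow (PT n R 1) (i + 1)) E k
  let vE : DerivedCategory.Q.obj ((T'.mapHomologicalComplex (ComplexShape.up ℤ)).obj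
      (((AmpleGen.tw N).mapHomologicalComplex (ComplexShape.up ℤ)).obj E)) ≅ K :=
    DerivedCategory.Q.mapIso (HomologicalComplex.Hom.isoOfComponents (fun j => vv.app (E.X j))
      fun j l _ => (vv.hom.naturality (E.d j l)).symm) ≪≫ eE
  let tgt : T'.mapDerivedCategory.obj ((pw (AmpleGen.tw (CohB1.tensorPow (PT n R 1) (i + 1))) k).obj K) ≅ K :=
    T'.mapDerivedCategory.mapIso ((pw _ k).mapIso eE.symm ≪≫ a) ≪≫
      T'.mapDerivedCategoryFactors.app _ ≪≫ vE
  let src : (DCoh.inD (CohB1.ProjSpace n R) N')⟦m⟧ ≅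
      T'.mapDerivedCategory.obj ((CompactUnit.oneD (CohB1.ProjSpace n R))⟦m⟧) :=
    ((T'.mapDerivedCategory.commShiftIso m).app _ ≪≫
      (shiftFunctor _ m).mapIso (T'.mapDerivedCategory.mapIso
        ((DerivedCategory.singleFunctorIsoCompQ _ 0).app (Coh.structureModule _)) ≪≫
        T'.mapDerivedCategoryFactors.app _ ≪≫
        DerivedCategory.Q.mapIso ((HomologicalComplex.singleMapHomologicalComplex T' (ComplexShape.up ℤ) 0).app _ ≪≫
          (HomologicalComplex.single _ (ComplexShape.up ℤ) 0).mapIso (leftUnit N')) ≪≫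
        ((DerivedCategory.singleFunctorIsoCompQ _ 0).app N').symm)).symm
  have hψ : src.hom ≫ T'.mapDerivedCategory.map φ ≫ tgt.hom = 0 := hall q m _
  refine T'.mapDerivedCategory.map_injective ?_
  rw [Functor.map_zero]
  have h2 := congrArg (fun z => src.inv ≫ z ≫ tgt.inv) hψ
  simpa using h2

end Pn

end Groth.Agent.H83.AmpleGen
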