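import Mathlib.Algebra.Homology.DerivedCategory.ExactFunctor
import Mathlib.Algebra.Homology.DerivedCategory.HomologySequence
import Mathlib.Algebra.Homology.ShortComplex.PreservesHomology
import Mathlib.CategoryTheory.Functor.OfSequence
import Mathlib.CategoryTheory.Abelian.GrothendieckAxioms.Basic
import Mathlib.CategoryTheory.Abelian.FunctorCategory

/-!
# A natural transformation `𝟭 ⟶ T` with `T` exact, on the derived category
-/

set_option autoImplicit false
set_option linter.style.haveILetI false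
set_option linter.unusedSectionVars false

universe w v u

open CategoryTheory CategoryTheory.Limits

namespace Groth.Agent.H83.AmpleGen

variable {A : Type u} [Category.{v} A] [Abelian A] [HasDerivedCategory.{w} A]
  (T : A ⥤ A) [T.Additive] [PreservesFiniteLimits T] [PreservesFiniteColimits T] (τ : 𝟭 A ⟶ T)

/-- The transformation on complexes. -/
noncomputable def τC : 𝟭 (CochainComplex A ℤ) ⟶ T.mapHomologicalComplex (ComplexShape.up ℤ) :=
  (Functor.mapHomologicalComplexIdIso A (ComplexShape.up ℤ)).inv ≫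
    NatTrans.mapHomologicalComplex τ (ComplexShape.up ℤ)

/-- The transformation on the derived category. -/
noncomputable def τD : 𝟭 (DerivedCategory A) ⟶ T.mapDerivedCategory :=
  letI : Localization.Lifting DerivedCategory.Q
      (HomologicalComplex.quasiIso A (ComplexShape.up ℤ))
      (DerivedCategory.Q : CochainComplex A ℤ ⥤ DerivedCategory A) (𝟭 (DerivedCategory A)) :=
    ⟨Functor.rightUnitor _⟩
  letI : Localization.Lifting DerivedCategory.Q
      (HomologicalComplex.quasiIso A (ComplexShape.up ℤ))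
      (T.mapHomologicalComplex (ComplexShape.up ℤ) ⋙ DerivedCategory.Q) T.mapDerivedCategory :=
    ⟨T.mapDerivedCategoryFactors⟩
  Localization.liftNatTrans DerivedCategory.Q (HomologicalComplex.quasiIso A (ComplexShape.up ℤ))
    (DerivedCategory.Q : CochainComplex A ℤ ⥤ DerivedCategory A)
    (T.mapHomologicalComplex (ComplexShape.up ℤ) ⋙ DerivedCategory.Q) _ _
    (Functor.whiskerRight (τC T τ) DerivedCategory.Q)

lemma τD_app_Q (E : CochainComplex A ℤ) : (τD T τ).app (DerivedCategory.Q.obj E) =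
    DerivedCategory.Q.map ((τC T τ).app E) ≫ T.mapDerivedCategoryFactors.inv.app E := by
  letI : Localization.Lifting DerivedCategory.Q
      (HomologicalComplex.quasiIso A (ComplexShape.up ℤ))
      (DerivedCategory.Q : CochainComplex A ℤ ⥤ DerivedCategory A) (𝟭 (DerivedCategory A)) :=
    ⟨Functor.rightUnitor _⟩
  letI : Localization.Lifting DerivedCategory.Q
      (HomologicalComplex.quasiIso A (ComplexShape.up ℤ))
      (T.mapHomologicalComplex (ComplexShape.up ℤ) ⋙ DerivedCategory.Q) T.mapDerivedCategory :=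
    ⟨T.mapDerivedCategoryFactors⟩
  refine (Localization.liftNatTrans_app _ _ _ _ _ _ _ _).trans ?_
  exact Category.id_comp _

lemma chain {D B : Type*} [Category D] [Category B] {T' : B ⥤ B} (H : D ⥤ B) {P Q R : D} {a : P ⟶ R}
    {q : P ⟶ Q} {b : Q ⟶ R} {c : R ⟶ Q} (ha : a = q ≫ b) (hbc : b ≫ c = 𝟙 Q) {P' Q' M : B}
    {eP : H.obj P ⟶ P'} {eQ : H.obj Q ⟶ Q'} {f : P' ⟶ Q'} (hn : H.map q ≫ eQ = eP ≫ f)
    {v : Q' ⟶ T'.obj M} {u₀ : P' ⟶ M} {t : M ⟶ T'.obj M} (hk : f ≫ v = u₀ ≫ t)
    (σ : 𝟭 B ⟶ T') (iP : H.obj P ≅ P') (iu : P' ≅ M) (hP : eP = iP.hom := by rfl)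
    (hu : u₀ = iu.hom := by rfl) (ht : t = σ.app M := by rfl) :
    H.map a ≫ H.map c ≫ eQ ≫ v ≫ T'.map (iu.inv ≫ iP.inv) = σ.app (H.obj P) := by
  subst hP hu ht
  rw [← H.map_comp_assoc, ha, Category.assoc, hbc, Category.comp_id, ← Category.assoc (H.map q), hn,
    Category.assoc, ← Category.assoc f, hk, Category.assoc]
  have h := σ.naturality (iu.inv ≫ iP.inv)
  simp only [Functor.id_map] at h
  rw [← h]
  simp

/-- On cohomology `τD` is `τ`. -/
theorem exists_homology_iso (Z : DerivedCategory A) (j : ℤ) :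
    ∃ φ : (DerivedCategory.homologyFunctor A j).obj (T.mapDerivedCategory.obj Z) ≅
        T.obj ((DerivedCategory.homologyFunctor A j).obj Z),
      (DerivedCategory.homologyFunctor A j).map ((τD T τ).app Z) ≫ φ.hom =
        τ.app ((DerivedCategory.homologyFunctor A j).obj Z) := by
  suffices h : ∀ E : CochainComplex A ℤ, ∃ φ : (DerivedCategory.homologyFunctor A j).obj
      (T.mapDerivedCategory.obj (DerivedCategory.Q.obj E)) ≅
        T.obj ((DerivedCategory.homologyFunctor A j).obj (DerivedCategory.Q.obj E)),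
      (DerivedCategory.homologyFunctor A j).map ((τD T τ).app (DerivedCategory.Q.obj E)) ≫ φ.hom =
        τ.app ((DerivedCategory.homologyFunctor A j).obj (DerivedCategory.Q.obj E)) by
    obtain ⟨φ, hφ⟩ := h (DerivedCategory.Q.objPreimage Z)
    let e := DerivedCategory.Q.objObjPreimageIso Z
    let H := DerivedCategory.homologyFunctor A j
    refine ⟨H.mapIso (T.mapDerivedCategory.mapIso e.symm) ≪≫ φ ≪≫ T.mapIso (H.mapIso e), ?_⟩
    simp only [Iso.trans_hom, Functor.mapIso_hom, Iso.symm_hom]
    rw [← H.map_comp_assoc, ← (τD T τ).naturality e.inv, H.map_comp_assoc, ← Category.assoc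
      (H.map ((τD T τ).app _)), hφ]
    simp only [Functor.id_map]
    have h2 := τ.naturality (H.map e.hom)
    simp only [Functor.id_map] at h2
    rw [← h2, ← Category.assoc, ← H.map_comp, e.inv_hom_id]
    erw [H.map_id]
    exact Category.id_comp _
  intro E
  let H := DerivedCategory.homologyFunctor A j
  let θ := DerivedCategory.homologyFunctorFactors A j
  let S := E.sc j
  let u := S.mapHomologyIso (𝟭 A)
  let v := S.mapHomologyIso T
  have key : HomologicalComplex.homologyMap ((τC T τ).app E) j ≫ v.hom =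
      u.hom ≫ τ.app (E.homology j) := by
    have h1 : ((HomologicalComplex.shortComplexFunctor A (ComplexShape.up ℤ) j).map ((τC T τ).app E) :
        S.map (𝟭 A) ⟶ S.map T) = S.mapNatTrans τ := by
      ext <;> simp [τC, ShortComplex.mapNatTrans, S] <;> exact Category.id_comp _
    change ShortComplex.homologyMap ((HomologicalComplex.shortComplexFunctor A (ComplexShape.up ℤ) j).map
      ((τC T τ).app E) : S.map (𝟭 A) ⟶ S.map T) ≫ v.hom = _
    rw [h1]
    erw [ShortComplex.homologyMap_mapNatTrans]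
    exact (Category.assoc _ _ _).trans (congrArg (u.hom ≫ ·)
      ((Category.assoc _ _ _).trans ((congrArg (τ.app S.homology ≫ ·) v.inv_hom_id).trans
        (Category.comp_id _))))
  let w := T.mapDerivedCategoryFactors.app E
  refine ⟨H.mapIso w ≪≫ θ.app _ ≪≫ v ≪≫ T.mapIso (u.symm ≪≫ (θ.app E).symm), ?_⟩
  exact chain H (b := w.inv) (c := w.hom) (τD_app_Q T τ E) w.inv_hom_id
    (θ.hom.naturality ((τC T τ).app E)) key τ (θ.app E) u

section Colim

variable [HasColimitsOfShape ℕ A] [HasExactColimitsOfShape ℕ A] [PreservesColimitsOfShape ℕ T]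

omit [HasDerivedCategory.{w} A] [PreservesFiniteLimits T] [PreservesFiniteColimits T] in
/-- If the transition maps kill what `τ` kills, then `τ` is injective on the colimit. -/
theorem mono_colimit (P : ℕ ⥤ A) (hkill : ∀ (n : ℕ) (K : A) (k : K ⟶ P.obj n),
      k ≫ τ.app (P.obj n) = 0 → k ≫ P.map (homOfLE (Nat.le_succ n)) = 0) :
    Mono (τ.app (colimit P)) := by
  let α : P ⟶ P ⋙ T := P.rightUnitor.inv ≫ Functor.whiskerLeft P τ
  let S := ShortComplex.mk (kernel.ι α) α (kernel.condition α)
  have hS : S.Exact := S.exact_of_f_is_kernel (kernelIsKernel α)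
  have h := hS.map (colim (J := ℕ) (C := A))
  have hf : (S.map (colim (J := ℕ) (C := A))).f = 0 := by
    refine colimit.hom_ext fun n => ?_
    have h0 : (kernel.ι α).app n ≫ τ.app (P.obj n) = 0 := by
      have hc : (kernel.ι α).app n ≫ 𝟙 (P.obj n) ≫ τ.app (P.obj n) = 0 :=
        congr_app (kernel.condition α) n
      rwa [Category.id_comp] at hc
    have h1 := hkill n _ ((kernel.ι α).app n) h0
    change colimit.ι _ n ≫ colimMap (kernel.ι α) = colimit.ι _ n ≫ 0
    rw [ι_colimMap, comp_zero, ← colimit.w P (homOfLE (Nat.le_succ n)), ← Category.assoc, h1, zero_comp]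
  haveI : Mono (colimMap α) := h.mono_g hf
  have he : τ.app (colimit P) = colimMap α ≫ (preservesColimitIso T P).inv := by
    refine colimit.hom_ext fun n => ?_
    rw [ι_colimMap_assoc, ι_preservesColimitIso_inv]
    have := τ.naturality (colimit.ι P n)
    simpa [α] using this
  rw [he]
  infer_instance

end Colim

/-- Iterates of the derived functor. -/
noncomputable def pw : ℕ → (DerivedCategory A ⥤ DerivedCategory A)
  | 0 => 𝟭 _
  | k + 1 => pw k ⋙ T.mapDerivedCategory

/-- Iterates of `τD`. -/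
noncomputable def sh : ∀ k : ℕ, 𝟭 (DerivedCategory A) ⟶ pw T k
  | 0 => 𝟙 _
  | k + 1 => sh k ≫ (Functor.rightUnitor _).inv ≫ Functor.whiskerLeft (pw T k) (τD T τ)

lemma sh_succ_app (k : ℕ) (Z : DerivedCategory A) :
    (sh T τ (k + 1)).app Z = (sh T τ k).app Z ≫ (τD T τ).app ((pw T k).obj Z) := by
  change _ ≫ 𝟙 _ ≫ _ = _
  rw [Category.id_comp]
  rfl

lemma pw_distinguished : ∀ (k : ℕ) (Δ : Pretriangulated.Triangle (DerivedCategory A)),
    Δ ∈ Pretriangulated.distinguishedTriangles →
      ∃ δ, Pretriangulated.Triangle.mk ((pw T k).map Δ.mor₁) ((pw T k).map Δ.mor₂) δ ∈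
        Pretriangulated.distinguishedTriangles
  | 0, Δ, hΔ => ⟨Δ.mor₃, hΔ⟩
  | k + 1, Δ, hΔ => by
    obtain ⟨δ, hδ⟩ := pw_distinguished k Δ hΔ
    exact ⟨_, T.mapDerivedCategory.map_distinguished _ hδ⟩

end Groth.Agent.H83.AmpleGen
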