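import Groth.Agent.H83.AmpleGen.Basic
import Groth.Agent.H83.AmpleGen.Derived
import Groth.Agent.Lib.DerivedOX.Amplitude
import Groth.Agent.Lib.DerivedOX.QCohLocal

/-!
# Iterated twists are twists by tensor powers
-/

set_option autoImplicit false
set_option linter.style.haveILetI false
set_option linter.unusedSectionVars false

universe u

open CategoryTheory CategoryTheory.Limits AlgebraicGeometry

attribute [local instance] HasDerivedCategory.standard

namespace Groth.Agent.H83.AmpleGen

open Groth.Agent.Lib Groth.Agent.Lib.DerivedOX Groth.Agent.Lib.TensorMod.Basic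

variable {X : Scheme.{u}}

/-- The prelude's twist functor is `- ⊗ F`. -/
noncomputable def twIsoRight (F : X.Modules) : DCoh.tensorRightMod F ≅ tw F :=
  NatIso.ofComponents (fun G => Iso.refl _) fun {G G'} g => by
    refine (Category.comp_id _).trans (Eq.trans ?_ (Category.id_comp _).symm)
    change ((DCoh.tensorBi (X := X)).map g).app F = tmap g (𝟙 F)
    exact PullTensor.tensorBi_map_app g F

instance additive_tw' (F : X.Modules) : (tw F).Additive :=
  Functor.additive_of_iso (twIsoRight F)

/-- `(G ⊗ A) ⊗ B ≅ G ⊗ (A ⊗ B)`, naturally. -/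
noncomputable def twAssoc (A B : X.Modules) : tw A ⋙ tw B ≅ tw (CohB1.tensorMod A B) :=
  NatIso.ofComponents (fun G => assoc G A B) fun {G G'} g => by
    change tmap (tmap g (𝟙 A)) (𝟙 B) ≫ (assoc G' A B).hom = (assoc G A B).hom ≫ tmap g (𝟙 _)
    rw [assoc_natural, tmap_id]

/-- Twisting twice on complexes. -/
noncomputable def twCxIso (A B : X.Modules) (E : CochainComplex X.Modules ℤ) :
    ((tw B).mapHomologicalComplex (ComplexShape.up ℤ)).obj
        (((tw A).mapHomologicalComplex (ComplexShape.up ℤ)).obj E) ≅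
      ((tw (CohB1.tensorMod A B)).mapHomologicalComplex (ComplexShape.up ℤ)).obj E :=
  HomologicalComplex.Hom.isoOfComponents (fun i => (twAssoc A B).app (E.X i))
    fun i j _ => ((twAssoc A B).hom.naturality (E.d i j)).symm

variable (M : X.Modules) [(tw M).IsEquivalence]

theorem exists_pw_iso (E : CochainComplex X.Modules ℤ) : ∀ k : ℕ,
    Nonempty ((pw (tw M) k).obj (DerivedCategory.Q.obj E) ≅
      DerivedCategory.Q.obj (((tw (CohB1.tensorPow M k)).mapHomologicalComplex (ComplexShape.up ℤ)).obj E))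
  | 0 => ⟨DerivedCategory.Q.mapIso
      ((HomologicalComplex.Hom.isoOfComponents (fun i => rightUnit (E.X i))
        fun i j _ => (rightUnit_natural (E.d i j)).symm :
        ((tw (Coh.structureModule X)).mapHomologicalComplex (ComplexShape.up ℤ)).obj E ≅ E).symm)⟩
  | k + 1 => by
    obtain ⟨e⟩ := exists_pw_iso E k
    exact ⟨(tw M).mapDerivedCategory.mapIso e ≪≫ (tw M).mapDerivedCategoryFactors.app _ ≪≫
      DerivedCategory.Q.mapIso (twCxIso (CohB1.tensorPow M k) M E)⟩

/-- Iterated twists compute derived twists. -/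
theorem exists_pw_iso_LTensorMod (Z : DCoh.D X) (k : ℕ) {N : X.Modules} (i : CohB1.tensorPow M k ≅ N)
    [DCoh.HasLTensorMod N] : Nonempty ((pw (tw M) k).obj Z ≅ (DCoh.LTensorMod N).obj Z) := by
  obtain ⟨E, hE, ⟨e⟩⟩ := QCohLocal.exists_kflat Z
  obtain ⟨a⟩ := exists_pw_iso M E k
  obtain ⟨b⟩ := Amplitude.nonempty_ltensor_iso N hE
  let c : ((tw (CohB1.tensorPow M k)).mapHomologicalComplex (ComplexShape.up ℤ)).obj E ≅
      (Amplitude.tens N).obj E :=
    HomologicalComplex.Hom.isoOfComponents
      (fun j => tensorIso (Iso.refl (E.X j)) i ≪≫ ((twIsoRight N).app (E.X j)).symm)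
      fun p q _ => by
        change (tmap (𝟙 (E.X p)) i.hom ≫ (twIsoRight N).inv.app (E.X p)) ≫
            (DCoh.tensorRightMod N).map (E.d p q) =
          tmap (E.d p q) (𝟙 _) ≫ tmap (𝟙 (E.X q)) i.hom ≫ (twIsoRight N).inv.app (E.X q)
        have hh : tmap (𝟙 (E.X p)) i.hom ≫ tmap (E.d p q) (𝟙 N) =
            tmap (E.d p q) (𝟙 (CohB1.tensorPow M k)) ≫ tmap (𝟙 (E.X q)) i.hom := by
          rw [← tmap_comp, ← tmap_comp, Category.id_comp, Category.comp_id, Category.comp_id,
            Category.id_comp]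
        exact (Category.assoc _ _ _).trans
          ((congrArg (tmap (𝟙 (E.X p)) i.hom ≫ ·) ((twIsoRight N).inv.naturality (E.d p q)).symm).trans
            ((Category.assoc _ _ _).symm.trans ((congrArg (· ≫ (twIsoRight N).inv.app (E.X q)) hh).trans
              (Category.assoc _ _ _))))
  exact ⟨(pw (tw M) k).mapIso e.symm ≪≫ a ≪≫ DerivedCategory.Q.mapIso c ≪≫ b.symm ≪≫
    (DCoh.LTensorMod N).mapIso e⟩

end Groth.Agent.H83.AmpleGen
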