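import Groth.Agent.H83.AmpleGen.Main
import Groth.Agent.H83.AmpleGen.Twist
import Groth.Agent.H83.AmpleGen.GammaHom
import Groth.Agent.Lib.Ample.Pullback

/-!
# Twists of a nonzero object have cohomology
-/

set_option autoImplicit false
set_option linter.style.haveILetI false
set_option linter.unusedSectionVars false

universe u

open CategoryTheory CategoryTheory.Limits AlgebraicGeometry

attribute [local instance] HasDerivedCategory.standard

namespace Groth.Agent.H83.AmpleGen

open Groth.Agent.Lib Groth.Agent.Lib.DerivedOX Groth.Agent.Lib.Gen43.Restrict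

variable {X : Scheme.{u}} {L : X.Modules}

/-- The twists of `𝒪` by negative powers generate. -/
theorem isZero_of_hom_eq_zero (hL : CohB1.IsAmple L) {K : DCoh.D X} (hK : DCoh.IsQCohD K)
    (h : ∀ (n k : ℕ) [(tw (CohB1.tensorPow L (n + 1))).IsEquivalence] (m : ℤ)
      (φ : (CompactUnit.oneD X)⟦m⟧ ⟶ (pw (tw (CohB1.tensorPow L (n + 1))) k).obj K), φ = 0) :
    IsZero K := by
  haveI := Ample.Pullback.quasiSeparatedSpace_of_isAmple hL
  obtain ⟨hinv, hc, hloc⟩ := hL
  haveI := hc
  refine isZero_of_van_top fun i x _ => ?_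
  obtain ⟨n, s, hx, hs⟩ := hloc x
  have hM := TensorMod.Invertible.isInvertible_tensorPow hinv (n + 1)
  haveI := isEquivalence_tw hM
  exact van_of_hom_eq_zero s hM hs hK (fun k m φ => h n k m φ) i x hx

/-- Some twist of a nonzero object has nonzero cohomology. -/
theorem exists_cohomology_ne_zero (hL : CohB1.IsAmple L) [DCoh.HasRΓ X]
    [∀ n : ℕ, DCoh.HasLTensorMod (CohB1.tensorPow L n)]
    (K : DCoh.D X) (hK : DCoh.IsQCohD K) (hK0 : ¬ IsZero K) :
    ∃ (n : ℕ) (p : ℤ), ¬ IsZero ((DerivedCategory.homologyFunctor AddCommGrpCat.{u} p).obj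
      ((DCoh.RΓ X).obj ((DCoh.LTensorMod (CohB1.tensorPow L n)).obj K))) := by
  by_contra hcon
  push Not at hcon
  refine hK0 (isZero_of_hom_eq_zero hL hK fun n k _ m φ => ?_)
  obtain ⟨e⟩ := exists_pw_iso_LTensorMod (CohB1.tensorPow L (n + 1)) K k
    (Ample.Pow.powMul L (n + 1) k)
  have h0 := eq_zero_of_isZero_RΓ _ m (hcon ((n + 1) * k) (-m)) (φ ≫ e.hom)
  exact (cancel_mono e.hom).1 (h0.trans zero_comp.symm)

end Groth.Agent.H83.AmpleGen
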