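import Groth.Agent.Lib.Cyc.Gys.MulMap
import Groth.Agent.Lib.Ample.Extend
import Groth.Agent.Lib.Snapper.Twist
import Groth.Agent.Lib.TensorMod.Colimit

/-!
# Multiplication by a section of an invertible module, as a natural transformation
-/

set_option autoImplicit false
set_option linter.style.haveILetI false

universe u

open CategoryTheory CategoryTheory.Limits AlgebraicGeometry Opposite TopologicalSpace

namespace Groth.Agent.H83.AmpleGen

open Groth.Agent.Lib Groth.Agent.Lib.TensorMod Groth.Agent.Lib.TensorMod.Basic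
open Groth.Agent.Lib.TensorMod.Free Groth.Agent.Lib.TensorMod.Dual Groth.Agent.Lib.TensorMod.Gen
open Groth.Agent.Lib.Ample
open Groth.Agent.Lib.Ample.GG (gm)
open Groth.Agent.Lib.Ample.GenLocus Groth.Agent.Lib.Modules.StalkModule

variable {X : Scheme.{u}} (M : X.Modules)

/-- `G ↦ G ⊗ M`. -/
noncomputable abbrev tw : X.Modules ⥤ X.Modules := tensorBy M

/-- `G ⊗ M ≅ M ⊗ G`, naturally. -/
noncomputable def twComm : tw M ≅ (tensorFunctor X).obj M :=
  NatIso.ofComponents (fun G => comm G M) (fun f => comm_natural f (𝟙 M))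

variable {M} in
theorem isEquivalence_tw (hM : PicF.IsInvertible M) : (tw M).IsEquivalence := by
  haveI := Snapper.Twist.isEquivalence_twist hM
  exact Functor.isEquivalence_of_iso (twComm M).symm

variable {M} (s : Coh.structureModule X ⟶ M)

/-- `G ⟶ G ⊗ M`, multiplication by `s`. -/
noncomputable def mulT : 𝟭 X.Modules ⟶ tw M where
  app G := Cyc.Gys.MulMap.mulS M (sv s ⊤) G
  naturality _ _ f := Cyc.Gys.MulMap.mulS_natural M (sv s ⊤) f

lemma ofSection_sv : ClSub.Cartier.ofSection M (sv s ⊤) = s := by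
  refine (SheafOfModules.unitHomEquiv M).injective (Subtype.ext (funext fun U => ?_))
  obtain ⟨U⟩ := U
  refine (ClSub.Cartier.ofSection_app M (sv s ⊤) U _).trans ?_
  exact (one_smul Γ(X, U) (rs M (le_top : U ≤ ⊤) (sv s ⊤) : Γ(M, U))).trans (rs_sv s le_top)

lemma span_gen {U : X.Opens} {e : Γ(M, U)} (he : IsGen M U e) {x : X} (hx : x ∈ U) :
    Submodule.span (X.presheaf.stalk x) {(gm hx e : M.presheaf.stalk x)} = ⊤ := by
  refine eq_top_iff.2 fun v _ => ?_
  obtain ⟨W, hxW, c, rfl⟩ := TopCat.Presheaf.exists_germ_eq M.presheaf v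
  obtain ⟨a, ha⟩ := exists_coord (he.res (inf_le_left : U ⊓ W ≤ U)) (rs M inf_le_right c)
  have hxV : x ∈ U ⊓ W := ⟨hx, hxW⟩
  change gm hxW c ∈ _
  rw [← GG.gm_rs (inf_le_right : U ⊓ W ≤ W) hxV, ha, GG.gm_smul, GG.gm_rs]
  exact Submodule.smul_mem _ _ (Submodule.subset_span rfl)

/-- A quasi-coherent module vanishing on `X_s` on which `s` is injective is zero. -/
theorem isZero_of_mono (hM : PicF.IsInvertible M) (N : X.Modules) [N.IsQuasicoherent]
    (hN : ∀ x ∈ CohB1.genLocus M s, Subsingleton (N.presheaf.stalk x)) [Mono ((mulT s).app N)] :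
    IsZero N := by
  refine Modules.Stalk.isZero_iff_stalk_subsingleton.2 fun x => ?_
  obtain ⟨U, e, hxU, he⟩ := TensorMod.Gen.isInvertible_iff.1 hM x
  have hsp := span_gen he hxU
  obtain ⟨a, ha⟩ := exists_coord he (sv s U)
  have hs : M.presheaf.germ ⊤ x trivial (sv s ⊤) = X.presheaf.germ U x hxU a • gm hxU e := by
    rw [← GG.gm_smul, ← ha, ← rs_sv s (le_top : U ≤ ⊤)]
    exact (GG.gm_rs le_top hxU _).symm
  obtain ⟨E, hE⟩ := Cyc.Gys.MulMap.exists_stalk M (sv s ⊤) hM hsp hs N
  have hinj : Function.Injective (stalkMapₗ ((mulT s).app N) x) :=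
    Modules.Stalk.mono_iff_stalk_injective _ |>.1 inferInstance x
  have hreg : ∀ (k : ℕ) (v : N.presheaf.stalk x), X.presheaf.germ U x hxU a ^ k • v = 0 → v = 0 := by
    intro k
    induction k with
    | zero => intro v hv; simpa using hv
    | succ k ih =>
      intro v hv
      refine ih v (hinj (E.injective ?_))
      have h1 : E (stalkMapₗ ((mulT s).app N) x (X.presheaf.germ U x hxU a ^ k • v)) = 0 :=
        (hE _).trans (by rw [smul_smul, ← pow_succ', hv])
      exact h1.trans ((congrArg E (map_zero _)).trans (map_zero E)).symm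
  refine subsingleton_of_forall_eq 0 fun v => ?_
  obtain ⟨W₀, hxW₀, c₀, rfl⟩ := TopCat.Presheaf.exists_germ_eq N.presheaf v
  obtain ⟨W, hW, hxW, hle⟩ := exists_isAffineOpen_mem_and_subset (U := U ⊓ W₀) ⟨hxU, hxW₀⟩
  have hWU : W ≤ U := fun y hy => (hle hy).1
  have hW0 : W ≤ W₀ := fun y hy => (hle hy).2
  let c := rs N hW0 c₀
  let b := rf hWU a
  have hb : rs N (X.basicOpen_le b) c = 0 := by
    refine TopCat.Presheaf.section_ext ((SheafOfModules.toSheaf _).obj N) _ _ _ fun y hy => ?_
    have hyW : y ∈ W := X.basicOpen_le b hy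
    have hya : y ∈ X.basicOpen a := by
      have := hy
      rw [show X.basicOpen b = W ⊓ X.basicOpen a from X.basicOpen_res a (homOfLE hWU).op] at this
      exact this.2
    have hyG : y ∈ CohB1.genLocus M s := ((genLocus_inf_eq he s ha).ge hya).1
    exact @Subsingleton.elim _ (hN y hyG) _ _
  obtain ⟨k, hk⟩ := QCoh.Localizing.exists_pow_smul_eq_zero_of_isCompact N hW.isCompact b c hb
  have h2 := congrArg (fun z => gm hxW z) hk
  rw [GG.gm_smul, map_pow] at h2
  change gm hxW₀ c₀ = 0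
  rw [← GG.gm_rs hW0 hxW]
  refine hreg k _ ?_
  have h3 : X.presheaf.germ W x hxW b = X.presheaf.germ U x hxU a :=
    TopCat.Presheaf.germ_res_apply X.presheaf (homOfLE hWU) x hxW a
  rw [← h3, h2]
  exact map_zero _

/-- `s` is invertible over `X_s`. -/
theorem bijective_stalk_mulT (hM : PicF.IsInvertible M) (N : X.Modules) {x : X}
    (hx : x ∈ CohB1.genLocus M s) : Function.Bijective (stalkMapₗ ((mulT s).app N) x) := by
  obtain ⟨U, e, hxU, he⟩ := TensorMod.Gen.isInvertible_iff.1 hM x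
  obtain ⟨a, ha⟩ := exists_coord he (sv s U)
  have hs : M.presheaf.germ ⊤ x trivial (sv s ⊤) = X.presheaf.germ U x hxU a • gm hxU e := by
    rw [← GG.gm_smul, ← ha, ← rs_sv s (le_top : U ≤ ⊤)]
    exact (GG.gm_rs le_top hxU _).symm
  obtain ⟨E, hE⟩ := Cyc.Gys.MulMap.exists_stalk M (sv s ⊤) hM (span_gen he hxU) hs N
  have hu : IsUnit (X.presheaf.germ U x hxU a) :=
    (Scheme.mem_basicOpen _ _ x hxU).1 ((genLocus_inf_eq he s ha).le ⟨hx, hxU⟩)
  have h : (fun m => E (stalkMapₗ ((mulT s).app N) x m)) = fun m => X.presheaf.germ U x hxU a • m :=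
    funext hE
  have hb : Function.Bijective (fun m => E (stalkMapₗ ((mulT s).app N) x m)) := by
    rw [h]
    exact hu.smul_bijective
  exact (Function.Bijective.of_comp_iff' E.bijective _).1 hb

end Groth.Agent.H83.AmpleGen
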