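import Groth.Agent.H83.AmpleGen.Nil
import Groth.Agent.Lib.Gen43.Generator
import Groth.Agent.Lib.DerivedOX.RpushQCoh
import Groth.Agent.Lib.DerivedOX.TildeEquiv
import Groth.Agent.Lib.SchColim29.GenSupport

/-!
# Ample invertible modules generate `D_QCoh`
-/

set_option autoImplicit false
set_option linter.style.haveILetI false
set_option linter.unusedSectionVars false

universe u

open CategoryTheory CategoryTheory.Limits CategoryTheory.Pretriangulated AlgebraicGeometry

attribute [local instance] HasDerivedCategory.standard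

namespace Groth.Agent.H83.AmpleGen

open Groth.Agent.Lib Groth.Agent.Lib.DerivedOX Groth.Agent.Lib.DerivedOX.CompactUnit
open Groth.Agent.Lib.Gen43.Restrict

variable {X : Scheme.{u}} {M : X.Modules}

lemma isZero_mid {A B : Type*} [Category A] [Category B] [Abelian A] [Abelian B] (F : A ⥤ B)
    [F.PreservesZeroMorphisms] [PreservesFiniteLimits F] [PreservesFiniteColimits F]
    {A₁ A₂ A₃ B₁ B₂ : A} {f : A₁ ⟶ A₂} {g : A₂ ⟶ A₃} {d : A₃ ⟶ B₁} {k : B₁ ⟶ B₂}
    (w₁ : f ≫ g = 0) (w₂ : g ≫ d = 0) (w₃ : d ≫ k = 0) (e : (ShortComplex.mk g d w₂).Exact)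
    [IsIso (F.map f)] [IsIso (F.map k)] : IsZero (F.obj A₃) := by
  have g0 : F.map g = 0 := by
    rw [← cancel_epi (F.map f), ← F.map_comp, w₁, F.map_zero, comp_zero]
  have d0 : F.map d = 0 := by
    rw [← cancel_mono (F.map k), ← F.map_comp, w₃, F.map_zero, zero_comp]
  exact (e.map F).isZero_of_both_zeros g0 d0

lemma isZero₃_of_homology {Tr : Triangle (DCoh.D X)} (hT : Tr ∈ distTriang (DCoh.D X)) (U : X.Opens)
    (h : ∀ i : ℤ, IsIso ((Scheme.Modules.restrictFunctor U.ι).map
      ((DerivedCategory.homologyFunctor X.Modules i).map Tr.mor₁))) :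
    IsIso ((DCoh.restrictD U.ι).map Tr.mor₁) := by
  refine (isIso_restrict_iff hT).2 (van_of_isZero (OpenSupport.isZero_of_homology _ fun i => ?_))
  refine IsZero.of_iso ?_ (Perfect.Coherent.homologyIso U.ι Tr.obj₃ i)
  haveI := h i
  haveI := h (i + 1)
  exact isZero_mid (Scheme.Modules.restrictFunctor U.ι)
    (f := (DerivedCategory.homologyFunctor X.Modules i).map Tr.mor₁)
    (g := (DerivedCategory.homologyFunctor X.Modules i).map Tr.mor₂)
    (d := DerivedCategory.HomologySequence.δ Tr i (i + 1) rfl)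
    (k := (DerivedCategory.homologyFunctor X.Modules (i + 1)).map Tr.mor₁)
    (by rw [← Functor.map_comp, comp_distTriang_mor_zero₁₂ _ hT, Functor.map_zero])
    (DerivedCategory.HomologySequence.comp_δ Tr hT i (i + 1) rfl)
    (DerivedCategory.HomologySequence.δ_comp Tr hT i (i + 1) rfl)
    (DerivedCategory.HomologySequence.exact₃ Tr hT i (i + 1) rfl)

variable [(tw M).IsEquivalence] (s : Coh.structureModule X ⟶ M) (hM : PicF.IsInvertible M)

include hM in
theorem isIso_restrict_mulD (Z : DCoh.D X) :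
    IsIso ((DCoh.restrictD (CohB1.genLocus M s).ι).map ((mulD s).app Z)) := by
  obtain ⟨C, g, δ, hT⟩ := distinguished_cocone_triangle ((mulD s).app Z)
  refine isZero₃_of_homology hT _ fun i => ?_
  obtain ⟨φ, hφ⟩ := exists_homology_iso (tw M) (mulT s) Z i
  have e : (DerivedCategory.homologyFunctor X.Modules i).map ((mulD s).app Z) =
      (mulT s).app _ ≫ φ.inv := (Iso.eq_comp_inv φ).2 hφ
  change IsIso ((Scheme.Modules.restrictFunctor _).map
    ((DerivedCategory.homologyFunctor X.Modules i).map ((mulD s).app Z)))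
  rw [e, Functor.map_comp]
  haveI : IsIso ((Scheme.Modules.restrictFunctor (CohB1.genLocus M s).ι).map
      ((mulT s).app ((DerivedCategory.homologyFunctor X.Modules i).obj Z))) := by
    refine SchColim29.GenSupport.isIso_restrict_of_bijective _ _ fun x hx => ?_
    exact bijective_stalk_mulT s hM _ hx
  infer_instance

include hM in
theorem isIso_restrict_sh : ∀ (n : ℕ) (Z : DCoh.D X),
    IsIso ((DCoh.restrictD (CohB1.genLocus M s).ι).map ((sh (tw M) (mulT s) n).app Z))
  | 0, Z => inferInstanceAs (IsIso ((DCoh.restrictD _).map (𝟙 Z)))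
  | n + 1, Z => by
    haveI := isIso_restrict_sh n Z
    haveI := isIso_restrict_mulD s hM ((pw (tw M) n).obj Z)
    refine (congrArg (fun t => IsIso ((DCoh.restrictD (CohB1.genLocus M s).ι).map t))
      (sh_succ_app (tw M) (mulT s) n Z)).mpr ?_
    erw [Functor.map_comp]
    exact @IsIso.comp_isIso _ _ _ _ _ _ _ (isIso_restrict_sh n Z)
      (isIso_restrict_mulD s hM ((pw (tw M) n).obj Z))

/-- On an affine scheme `𝒪` detects zero objects. -/
theorem isZero_of_oneD {V : Scheme.{u}} [IsAffine V] {E : DCoh.D V} (hE : DCoh.IsQCohD E)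
    (h : ∀ (n : ℤ) (φ : (oneD V)⟦n⟧ ⟶ E), φ = 0) : IsZero E := by
  obtain ⟨P, hP, -, hgen⟩ := Gen43.Affine.exists_gen (X := V) (W := ⊥)
    (by rw [TopologicalSpace.Opens.coe_bot]; exact isCompact_empty)
  refine hgen E hE (van_bot E) fun n φ => ?_
  let C : ObjectProperty (DCoh.D V) := fun Q => ∀ (m : ℤ) (φ : Q⟦m⟧ ⟶ E), φ = 0
  have hC : C P := by
    refine Gen43.Affine.perfect_induction C (fun Q hQ m φ => (Functor.map_isZero _ hQ).eq_of_src _ _)
      (fun Q Q' r hQ m φ => ?_) (fun T hT h₁ h₃ m φ => ?_) (fun k m φ => ?_) hP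
    · rw [← cancel_epi (r.r⟦m⟧'), comp_zero]
      exact hQ m _
    · obtain ⟨ψ, rfl⟩ := Triangle.yoneda_exact₂ _ (Triangle.shift_distinguished _ hT m) φ (h₁ m _)
      exact (congrArg (_ ≫ ·) (h₃ m ψ)).trans comp_zero
    · rw [← cancel_epi ((shiftFunctorAdd' (DCoh.D V) k m (k + m) rfl).hom.app (oneD V)), comp_zero]
      exact h (k + m) _
  exact hC n φ

variable [CompactSpace X] [QuasiSeparatedSpace X]

include hM in
/-- If no twist of `K` has cohomology then `K` vanishes on `X_s`. -/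
theorem van_of_hom_eq_zero (hU : IsAffineOpen (CohB1.genLocus M s)) {K : DCoh.D X}
    (hK : DCoh.IsQCohD K)
    (h : ∀ (n : ℕ) (m : ℤ) (φ : (oneD X)⟦m⟧ ⟶ (pw (tw M) n).obj K), φ = 0) :
    Van (CohB1.genLocus M s) K := by
  let U := CohB1.genLocus M s
  haveI : IsAffine (U : Scheme.{u}) := hU
  haveI := quasiCompact_ι (X := X) hU.isCompact
  haveI := Exists.hasRpush U.ι
  haveI := OpenImm.isIso_restrictPushAdj_counit U.ι
  let adj := OpenImm.restrictPushAdj U.ι
  let KU := (DCoh.restrictD U.ι).obj K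
  have hKU : DCoh.IsQCohD KU := CompactUnit.isQCohD_restrictD U.ι hK
  refine van_of_isZero (isZero_of_oneD hKU fun m β => ?_)
  let R := (DCoh.Rpush U.ι).obj KU
  let η : K ⟶ R := unit U.ι K
  obtain ⟨W, g, δ, hT⟩ := distinguished_cocone_triangle η
  have hR : DCoh.IsQCohD R := RpushQCoh.isQCohD_Rpush U.ι KU hKU
  have hW : DCoh.IsQCohD W := TildeEquiv.isQCohD_mor₃ _ hT hK hR
  have hv : Van U W := (isIso_restrict_iff hT).1 (isIso_restrict_unit U.ι K)
  let e : (DCoh.restrictD U.ι).obj ((oneD X)⟦m⟧) ≅ (oneD (U : Scheme.{u}))⟦m⟧ :=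
    ((DCoh.restrictD U.ι).commShiftIso m).app _ ≪≫
      (shiftFunctor _ m).mapIso (CompactUnit.restrictOneIso U.ι)
  let α : (oneD X)⟦m⟧ ⟶ R := adj.homEquiv _ _ (e.hom ≫ β)
  obtain ⟨N, hN⟩ := exists_comp_sh_eq_zero s hM
    (Perfect.Triangle.isPerfect_shift (Gen43.Affine.isPerfect_oneD' X) m) hW hv (α ≫ g)
  obtain ⟨δ', hTN⟩ := pw_distinguished (tw M) N _ hT
  have h2 : (α ≫ (sh (tw M) (mulT s) N).app R) ≫ (pw (tw M) N).map g = 0 := by
    rw [Category.assoc, ← (sh (tw M) (mulT s) N).naturality g, ← Category.assoc]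
    exact hN
  obtain ⟨a, ha⟩ := Triangle.coyoneda_exact₂ _ hTN _ h2
  have hα : α ≫ (sh (tw M) (mulT s) N).app R = 0 :=
    ha.trans ((congrArg (· ≫ (pw (tw M) N).map η) (h N m a)).trans zero_comp)
  haveI := isIso_restrict_sh s hM N R
  have h3 : (DCoh.restrictD U.ι).map α = 0 := by
    have := congrArg (fun k => (DCoh.restrictD U.ι).map k) hα
    simp only [Functor.map_comp, Functor.map_zero] at this
    exact (cancel_mono ((DCoh.restrictD U.ι).map ((sh (tw M) (mulT s) N).app R))).1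
      (this.trans zero_comp.symm)
  have h4 : e.hom ≫ β = 0 := by
    have := (adj.homEquiv ((oneD X)⟦m⟧) KU).symm_apply_apply (e.hom ≫ β)
    rw [← this, Adjunction.homEquiv_counit]
    change (DCoh.restrictD U.ι).map α ≫ _ = 0
    rw [h3, zero_comp]
  exact (cancel_epi e.hom).1 (h4.trans comp_zero.symm)

end Groth.Agent.H83.AmpleGen
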