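import Groth.Agent.H83.AmpleGen.Basic
import Groth.Agent.H83.AmpleGen.Derived
import Groth.Agent.Lib.Gen43.SmulNilp
import Groth.Agent.Lib.TensorMod.TensorQCoh

/-!
# A power of `s` kills maps from `𝒪` to objects supported off `X_s`
-/

set_option autoImplicit false
set_option linter.style.haveILetI false
set_option linter.unusedSectionVars false

universe u

open CategoryTheory CategoryTheory.Limits CategoryTheory.Pretriangulated AlgebraicGeometry

attribute [local instance] HasDerivedCategory.standard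

namespace Groth.Agent.H83.AmpleGen

open Groth.Agent.Lib Groth.Agent.Lib.DerivedOX Groth.Agent.Lib.DerCat.FixCoprod
open Groth.Agent.Lib.Gen43.Restrict Groth.Agent.Lib.Modules.StalkModule

variable {X : Scheme.{u}} {M : X.Modules}

instance additive_tw (M : X.Modules) [(tw M).IsEquivalence] : (tw M).Additive :=
  Functor.additive_of_preserves_binary_products _

variable [(tw M).IsEquivalence] (s : Coh.structureModule X ⟶ M)

/-- `- ⊗ M` on the derived category. -/
noncomputable abbrev TD : DCoh.D X ⥤ DCoh.D X := (tw M).mapDerivedCategory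

/-- Multiplication by `s`. -/
noncomputable abbrev mulD : 𝟭 (DCoh.D X) ⟶ TD (M := M) := τD (tw M) (mulT s)

lemma van_subsingleton {W : X.Opens} {K : DCoh.D X} (h : Van W K) (i : ℤ) {x : X} (hx : x ∈ W) :
    Subsingleton ((DCoh.HD K i).presheaf.stalk x) :=
  not_not.1 (h i x hx)

variable (hM : PicF.IsInvertible M)

include s hM in
lemma stage {W : DCoh.D X} (hW : DCoh.IsQCohD W) (hv : Van (CohB1.genLocus M s) W) :
    ∀ n : ℕ, DCoh.IsQCohD ((pw (tw M) n).obj W) ∧ Van (CohB1.genLocus M s) ((pw (tw M) n).obj W)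
  | 0 => ⟨hW, hv⟩
  | n + 1 => by
    obtain ⟨h1, h2⟩ := stage hW hv n
    refine ⟨fun j => ?_, fun j x hx => ?_⟩
    · obtain ⟨φ, -⟩ := exists_homology_iso (tw M) (mulT s) ((pw (tw M) n).obj W) j
      haveI := h1 j
      haveI := TensorMod.QCohInv.isQCoh_of_isInvertible hM
      exact (WayOut.Scheme.qc X).prop_of_iso φ.symm
        (TensorMod.TensorQCoh.isQCoh_tensorMod (DCoh.HD ((pw (tw M) n).obj W) j) M)
    · obtain ⟨φ, -⟩ := exists_homology_iso (tw M) (mulT s) ((pw (tw M) n).obj W) j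
      refine fun h => h ?_
      haveI : Subsingleton (((tw M).obj (DCoh.HD ((pw (tw M) n).obj W) j)).presheaf.stalk x) :=
        @Function.Surjective.subsingleton _ _ _ (van_subsingleton h2 j hx)
          (bijective_stalk_mulT s hM (DCoh.HD ((pw (tw M) n).obj W) j) hx).2
      exact (stalkLinearEquiv φ x).toEquiv.subsingleton

theorem isZero_restrict_colimit {P : ℕ ⥤ X.Modules} {U : X.Opens}
    (h : ∀ n, ∀ x ∈ U, Subsingleton ((P.obj n).presheaf.stalk x)) (c : Cocone P) (hc : IsColimit c) :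
    ∀ x ∈ U, Subsingleton (c.pt.presheaf.stalk x) := by
  intro x hx
  haveI := (Scheme.Modules.restrictAdjunction U.ι).leftAdjoint_preservesColimits
  have hz : IsZero (c.pt.restrict U.ι) := by
    refine (IsZero.iff_id_eq_zero _).2 ((isColimitOfPreserves (Scheme.Modules.restrictFunctor U.ι) hc).hom_ext
      fun n => IsZero.eq_of_src ?_ _ _)
    refine Modules.Stalk.isZero_iff_stalk_subsingleton.2 fun y => ?_
    haveI := h n (U.ι y) y.2
    exact (Modules.StalkRestrict.restrictStalkAddEquiv U.ι (P.obj n) y).toEquiv.subsingleton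
  haveI := Modules.Stalk.isZero_iff_stalk_subsingleton.1 hz ⟨x, hx⟩
  exact (Modules.StalkRestrict.restrictStalkAddEquiv U.ι c.pt ⟨x, hx⟩).symm.toEquiv.subsingleton

theorem isQCoh_colimit_nat (P : ℕ ⥤ X.Modules) (h : ∀ n, (P.obj n).IsQuasicoherent) :
    (colimit P).IsQuasicoherent := by
  let e : ℕ ≌ AsSmall.{u} ℕ := AsSmall.equiv
  exact (WayOut.Scheme.qc X).prop_of_iso (Functor.Final.colimitIso e.inverse P)
    (QCoh.Closure.isQCoh_colimit (e.inverse ⋙ P) fun j => h _)

variable [CompactSpace X] [QuasiSeparatedSpace X]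

include hM in
/-- The main statement. -/
theorem exists_comp_sh_eq_zero {W E : DCoh.D X} (hE : DCoh.IsPerfect E) (hW : DCoh.IsQCohD W)
    (hv : Van (CohB1.genLocus M s) W) (γ : E ⟶ W) :
    ∃ N : ℕ, γ ≫ (sh (tw M) (mulT s) N).app W = 0 := by
  classical
  let K : ℕ → DCoh.D X := fun n => (pw (tw M) n).obj W
  have hK := stage s hM hW hv
  let f : ∀ n, K n ⟶ K (n + 1) := fun n => (mulD s).app (K n)
  let F : ℕ ⥤ DCoh.D X := Functor.ofSequence f
  let tr : ∀ {n m : ℕ}, n ≤ m → (K n ⟶ K m) := fun h => F.map (homOfLE h)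
  have htr0 : ∀ n, tr (le_refl n) = 𝟙 (K n) := fun n => F.map_id n
  have htr1 : ∀ n, tr (Nat.le_succ n) = f n := fun n => Functor.ofSequence_map_homOfLE_succ f n
  have htr : ∀ {n m l : ℕ} (h : n ≤ m) (h' : m ≤ l), tr h ≫ tr h' = tr (h.trans h') := fun h h' =>
    (F.map_comp (homOfLE h) (homOfLE h')).symm
  have hsh : ∀ n, (sh (tw M) (mulT s) n).app W = tr (Nat.zero_le n) := by
    intro n
    induction n with
    | zero => exact (htr0 0).symm
    | succ n ih =>
      rw [sh_succ_app, ih]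
      exact (congrArg (tr (Nat.zero_le n) ≫ ·) (htr1 n).symm).trans (htr _ _)
  haveI := CompactUnit.hasCoproduct (ULift.{u} ℕ) fun n : ULift.{u} ℕ => K n.down
  haveI : HasColimitsOfShape (Discrete ℕ) (DCoh.D X) := by
    haveI : HasColimitsOfShape (Discrete (ULift.{u} ℕ)) (DCoh.D X) :=
      ⟨fun G => by
        haveI : HasColimit (Discrete.functor (G.obj ∘ Discrete.mk)) :=
          CompactUnit.hasCoproduct (ULift.{u} ℕ) fun x => G.obj ⟨x⟩
        exact hasColimit_of_iso Discrete.natIsoFunctor⟩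
    exact hasColimitsOfShape_of_equivalence (Discrete.equivalence (Equiv.ulift.{u} (α := ℕ)))
  obtain ⟨L, p, c, hT⟩ := distinguished_cocone_triangle (𝟙 (∐ K) - DerLim.shiftMap K f)
  have hL : DerLim.IsHocolim K f L (fun n => Sigma.ι K n ≫ p) :=
    ⟨c, by rw [show Sigma.desc (fun n => Sigma.ι K n ≫ p) = p from Sigma.hom_ext _ _ fun n => by simp]
           exact hT⟩
  have hL0 : IsZero L := by
    refine OpenSupport.isZero_of_homology _ fun j => ?_
    let H := DerivedCategory.homologyFunctor X.Modules j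
    haveI : ∀ (ι : Type u), PreservesColimitsOfShape (Discrete ι) H := fun ι =>
      ⟨fun {G} => by
        haveI : PreservesColimit (Discrete.functor (G.obj ∘ Discrete.mk)) H :=
          QCohCoprod.preservesColimit_homology (fun x => G.obj ⟨x⟩) j
        exact preservesColimit_of_iso_diagram _ Discrete.natIsoFunctor.symm⟩
    haveI : PreservesColimitsOfShape (Discrete ℕ) H :=
      preservesColimitsOfShape_of_equiv (Discrete.equivalence (Equiv.ulift.{u} (α := ℕ))) H
    haveI : HasExactColimitsOfShape ℕ X.Modules := by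
      haveI : IsFiltered (AsSmall.{u} ℕ) := IsFiltered.of_equivalence AsSmall.equiv
      exact HasExactColimitsOfShape.of_domain_equivalence X.Modules (AsSmall.equiv (C := ℕ)).symm
    obtain ⟨e, -⟩ := DerCat.Hocolim.exists_iso_colimit H K f L _ hL
    refine IsZero.of_iso ?_ e.symm
    let P : ℕ ⥤ X.Modules := Functor.ofSequence fun n => H.map (f n)
    haveI : Mono ((mulT s).app (colimit P)) := by
      refine mono_colimit (tw M) (mulT s) P fun n T k hk => ?_
      obtain ⟨φ, hφ⟩ := exists_homology_iso (tw M) (mulT s) (K n) j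
      rw [show P.map (homOfLE (Nat.le_succ n)) = H.map (f n) from
        Functor.ofSequence_map_homOfLE_succ (fun n => H.map (f n)) n]
      exact (cancel_mono φ.hom).1 (((Category.assoc _ _ _).trans
        ((congrArg (k ≫ ·) hφ).trans hk)).trans zero_comp.symm)
    haveI : (colimit P).IsQuasicoherent := isQCoh_colimit_nat P fun n => (hK n).1 j
    exact isZero_of_mono s hM _ (isZero_restrict_colimit
      (fun n x hx => van_subsingleton (hK n).2 j hx) (colimit.cocone P) (colimit.isColimit P))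
  haveI : IsIso (𝟙 (∐ K) - DerLim.shiftMap K f) := (Triangle.isZero₃_iff_isIso₁ _ hT).1 hL0
  let γ₀ : E ⟶ K 0 := γ
  let h : E ⟶ ∐ K := γ₀ ≫ Sigma.ι K 0 ≫ inv (𝟙 (∐ K) - DerLim.shiftMap K f)
  let b : (∐ K) ⟶ ∐ (fun n : ULift.{u} ℕ => K n.down) :=
    Sigma.desc fun n => Sigma.ι (fun n : ULift.{u} ℕ => K n.down) ⟨n⟩
  obtain ⟨t, ht⟩ := Gen43.Compact.goodP X E hE (ULift.{u} ℕ) _ (fun n => (hK n.down).1) (h ≫ b)
  obtain ⟨N, hN⟩ := (t.image ULift.down).exists_nat_subset_range
  refine ⟨N, ?_⟩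
  let p' : (∐ K) ⟶ K N := Sigma.desc fun n => if hn : n ≤ N then tr hn else 0
  let q : (∐ fun n : ULift.{u} ℕ => K n.down) ⟶ K N :=
    Sigma.desc fun n => if hn : n.down = N then eqToHom (congrArg K hn) else 0
  have hp : (𝟙 (∐ K) - DerLim.shiftMap K f) ≫ p' = b ≫ q := Sigma.hom_ext _ _ fun n => by
    simp only [Preadditive.sub_comp, Preadditive.comp_sub, Category.id_comp, DerLim.shiftMap, p', q, b,
      Sigma.ι_desc_assoc, Category.assoc, Sigma.ι_desc]
    rcases lt_trichotomy n N with h | rfl | h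
    · rw [dif_pos h.le, dif_pos (by omega : n + 1 ≤ N), dif_neg h.ne, sub_eq_zero, ← htr1 n, htr]
    · rw [dif_pos le_rfl, dif_neg (by omega : ¬ n + 1 ≤ n), dif_pos rfl, comp_zero, sub_zero]
      exact htr0 n
    · rw [dif_neg (by omega : ¬ n ≤ N), dif_neg (by omega : ¬ n + 1 ≤ N), dif_neg (by omega : ¬ n = N)]
      simp
  have hcut : cut (fun n : ULift.{u} ℕ => K n.down) t ≫ q = 0 := Sigma.hom_ext _ _ fun n => by
    rw [← Category.assoc, ι_cut, comp_zero]
    split_ifs with hn
    · have : n.down < N := Finset.mem_range.1 (hN (Finset.mem_image.2 ⟨n, hn, rfl⟩))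
      simp [q, this.ne]
    · exact zero_comp
  rw [hsh]
  calc γ₀ ≫ tr (Nat.zero_le N) = γ₀ ≫ Sigma.ι K 0 ≫ p' := by simp [p']
    _ = h ≫ (𝟙 (∐ K) - DerLim.shiftMap K f) ≫ p' := by simp only [h, Category.assoc, IsIso.inv_hom_id_assoc]
    _ = 0 := by rw [hp, ← Category.assoc, ← ht, Category.assoc, hcut, comp_zero]

end Groth.Agent.H83.AmpleGen
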